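import Mathlib

/-!
Irreducible representations over an algebraically closed field of any characteristic: Schur's
lemma, Burnside's density theorem, and prime power dimension for irreducible actions of `q`-groups.
-/

set_option autoImplicit false
set_option linter.style.haveILetI false

open Module

namespace CfsgLib.RepCritical

variable {G : Type*} [Group G] {K : Type*} [Field K] {V : Type*} [AddCommGroup V] [Module K V]

/-- `W` is invariant under the elements of `H`. -/
def Inv (ρ : Representation K G V) (H : Subgroup G) (W : Submodule K V) : Prop :=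
  ∀ g ∈ H, ∀ w ∈ W, ρ g w ∈ W

/-- `W` is irreducible under the elements of `H`. -/
def IrrOn (ρ : Representation K G V) (H : Subgroup G) (W : Submodule K V) : Prop :=
  Inv ρ H W ∧ W ≠ ⊥ ∧ ∀ U ≤ W, Inv ρ H U → U = ⊥ ∨ U = W

variable [IsAlgClosed K] [FiniteDimensional K V]

/-- Schur's lemma. -/
theorem exists_scalar (ρ : Representation K G V) {H : Subgroup G} (h : IrrOn ρ H ⊤) (f : End K V)
    (hf : ∀ g ∈ H, f * ρ g = ρ g * f) : ∃ c : K, f = c • 1 := by
  haveI : Nontrivial V := by
    by_contra hnt
    rw [not_nontrivial_iff_subsingleton] at hnt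
    exact h.2.1 (Subsingleton.elim _ _)
  obtain ⟨c, hc⟩ := Module.End.exists_eigenvalue f
  refine ⟨c, ?_⟩
  have hinv : Inv ρ H (f.eigenspace c) := by
    intro g hg w hw
    rw [Module.End.mem_eigenspace_iff] at hw ⊢
    rw [← Module.End.mul_apply, hf g hg, Module.End.mul_apply, hw, map_smul]
  have htop := (h.2.2 _ le_top hinv).resolve_left hc
  ext v
  exact Module.End.mem_eigenspace_iff.1 (htop ▸ Submodule.mem_top : v ∈ f.eigenspace c)

/-- Burnside's density theorem. -/
theorem span_eq_top (ρ : Representation K G V) {H : Subgroup G} (h : IrrOn ρ H ⊤) :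
    Submodule.span K ((fun g => ρ g) '' (H : Set G)) = ⊤ := by
  classical
  set A := Algebra.adjoin K ((fun g => ρ g) '' (H : Set G)) with hA
  haveI : Nontrivial V := by
    by_contra hnt
    rw [not_nontrivial_iff_subsingleton] at hnt
    exact h.2.1 (Subsingleton.elim _ _)
  have : IsSimpleModule A V := by
    refine @IsSimpleModule.mk _ _ _ _ _ { exists_pair_ne := ⟨⊥, ⊤, bot_ne_top⟩, eq_bot_or_eq_top := fun S => ?_ }
    have hinv : Inv ρ H (S.restrictScalars K) := fun g hg w hw =>
      S.smul_mem ⟨ρ g, Algebra.subset_adjoin (Set.mem_image_of_mem _ hg)⟩ hw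
    rcases h.2.2 _ le_top hinv with h' | h'
    · exact Or.inl ((Submodule.restrictScalars_eq_bot_iff K _ _).1 h')
    · exact Or.inr ((Submodule.restrictScalars_eq_top_iff K _ _).1 h')
  have hend : ∀ f : End A V, ∃ c : K, ∀ v, f v = c • v := by
    intro f
    obtain ⟨c, hc⟩ := exists_scalar ρ h (f.restrictScalars K) fun g hg => by
      ext v
      exact f.map_smul ⟨ρ g, Algebra.subset_adjoin (Set.mem_image_of_mem _ hg)⟩ v
    exact ⟨c, fun v => LinearMap.congr_fun hc v⟩
  have : Module.Finite (End A V) V := Module.Finite.of_restrictScalars_finite K _ _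
  rw [eq_top_iff]
  intro f _
  let φ : End (End A V) V :=
    { toFun := f
      map_add' := map_add f
      map_smul' := fun a v => by
        obtain ⟨c, hc⟩ := hend a
        simp only [RingHom.id_apply, Module.End.smul_def, hc, map_smul] }
  obtain ⟨r, hr⟩ := Module.Finite.toModuleEnd_moduleEnd_surjective (R := A) (M := V) φ
  have hrf : (r : End K V) = f := LinearMap.ext fun v =>
    congrArg (fun ψ : End (End A V) V => ψ v) hr
  rw [← hrf]
  refine Algebra.adjoin_induction (p := fun x _ => x ∈ Submodule.span K ((fun g => ρ g) '' (H : Set G)))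
    (fun x hx => Submodule.subset_span hx) (fun c => ?_) (fun x y _ _ hx hy => add_mem hx hy)
    (fun x y _ _ hx hy => ?_) r.2
  · rw [Algebra.algebraMap_eq_smul_one]
    exact Submodule.smul_mem _ c (Submodule.subset_span ⟨1, H.one_mem, map_one ρ⟩)
  · have hxy := Submodule.mul_mem_mul hx hy
    rw [Submodule.span_mul_span] at hxy
    refine Submodule.span_mono ?_ hxy
    rintro _ ⟨_, ⟨g, hg, rfl⟩, _, ⟨g', hg', rfl⟩, rfl⟩
    exact ⟨g * g', H.mul_mem hg hg', map_mul ρ g g'⟩

/-- The dimension of an irreducible submodule of a `q`-group is a power of `q`. -/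
theorem exists_finrank_eq_pow [Finite G] (ρ : Representation K G V) {q : ℕ} [hq : Fact q.Prime] :
    ∀ (m : ℕ) (H : Subgroup G), Nat.card H ≤ m → IsPGroup q H → ∀ W : Submodule K V, IrrOn ρ H W →
      ∃ b, finrank K W = q ^ b := by
  classical
  intro m
  induction m with
  | zero => intro H hm; have := Nat.card_pos (α := H); omega
  | succ m ih =>
    intro H hm hH W hW
    obtain ⟨hWi, hW0, hWu⟩ := hW
    let S : Subgroup H :=
      { carrier := {g | ∃ c : K, ∀ w ∈ W, ρ g.1 w = c • w}
        one_mem' := ⟨1, fun w _ => by simp⟩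
        mul_mem' := by
          rintro g g' ⟨c, hc⟩ ⟨c', hc'⟩
          refine ⟨c' * c, fun w hw => ?_⟩
          rw [Subgroup.coe_mul, map_mul, Module.End.mul_apply, hc' w hw, map_smul, hc w hw, smul_smul]
        inv_mem' := by
          rintro g ⟨c, hc⟩
          refine ⟨c⁻¹, fun w hw => ?_⟩
          have h1 := hc _ (hWi _ (H.inv_mem g.2) w hw)
          rw [ρ.self_inv_apply] at h1
          rw [Subgroup.coe_inv]
          rcases eq_or_ne c 0 with rfl | hc0
          · rw [zero_smul] at h1
            rw [h1, map_zero, smul_zero]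
          · conv_rhs => rw [h1, smul_smul, inv_mul_cancel₀ hc0, one_smul] }
    haveI hSn : S.Normal := ⟨by
      rintro g ⟨c, hc⟩ x
      refine ⟨c, fun w hw => ?_⟩
      show ρ ((x : G) * g * (x : G)⁻¹) w = c • w
      rw [map_mul, map_mul, Module.End.mul_apply, Module.End.mul_apply,
        hc _ (hWi _ (H.inv_mem x.2) w hw), map_smul, ρ.self_inv_apply]⟩
    by_cases hS : S = ⊤
    · obtain ⟨w, hw, hw0⟩ := Submodule.exists_mem_ne_zero_of_ne_bot hW0
      refine ⟨0, ?_⟩
      have hinv : Inv ρ H (K ∙ w) := by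
        intro g hg v hv
        obtain ⟨a, rfl⟩ := Submodule.mem_span_singleton.1 hv
        obtain ⟨c, hc⟩ : (⟨g, hg⟩ : H) ∈ S := hS ▸ Subgroup.mem_top _
        rw [map_smul, hc w hw]
        exact Submodule.smul_mem _ _ (Submodule.smul_mem _ _ (Submodule.mem_span_singleton_self w))
      have he := (hWu _ ((Submodule.span_singleton_le_iff_mem _ _).2 hw) hinv).resolve_left
        (mt Submodule.span_singleton_eq_bot.1 hw0)
      rw [← he, finrank_span_singleton hw0, pow_zero]
    -- an element which is central modulo the scalars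
    haveI : Nontrivial (H ⧸ S) := QuotientGroup.nontrivial_iff.2 hS
    haveI := (hH.to_quotient S).center_nontrivial
    obtain ⟨⟨a', ha'c⟩, ha'1⟩ := exists_ne (1 : Subgroup.center (H ⧸ S))
    obtain ⟨⟨a, haH⟩, rfl⟩ := QuotientGroup.mk'_surjective S a'
    have haS : (⟨a, haH⟩ : H) ∉ S := fun h =>
      ha'1 (Subtype.ext ((QuotientGroup.eq_one_iff _).2 h))
    have hmul : ∀ g ∈ H, ∃ c : K, c ≠ 0 ∧ ∀ w ∈ W, ρ a (ρ g w) = c • ρ g (ρ a w) := by
      intro g hg
      have h1 := Subgroup.mem_center_iff.1 ha'c (QuotientGroup.mk' S ⟨g, hg⟩)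
      rw [← map_mul, ← map_mul] at h1
      obtain ⟨c, hc⟩ := QuotientGroup.eq.1 h1
      refine ⟨c, fun hc0 => ?_, fun w hw => ?_⟩
      · obtain ⟨w, hw, hw0⟩ := Submodule.exists_mem_ne_zero_of_ne_bot hW0
        have h2 := hc w hw
        rw [hc0, zero_smul] at h2
        refine hw0 ?_
        have := congrArg (ρ ((g * a)⁻¹ * (a * g))⁻¹) h2
        simpa using this
      · have h2 := hc w hw
        simp only [Subgroup.coe_mul, Subgroup.coe_inv] at h2
        calc ρ a (ρ g w) = ρ (g * a) (ρ ((g * a)⁻¹ * (a * g)) w) := by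
              rw [← Module.End.mul_apply, ← Module.End.mul_apply, ← map_mul, ← map_mul,
                mul_inv_cancel_left]
          _ = c • ρ g (ρ a w) := by rw [h2, map_smul, map_mul, Module.End.mul_apply]
    haveI : Nontrivial W := Submodule.nontrivial_iff_ne_bot.2 hW0
    obtain ⟨μ, hμ⟩ := Module.End.exists_eigenvalue ((ρ a).restrict (hWi a haH))
    obtain ⟨v0, hv0⟩ := hμ.exists_hasEigenvector
    set W1 := W ⊓ Module.End.eigenspace (ρ a) μ with hW1
    have hW1ne : W1 ≠ ⊥ := by
      intro h0
      refine hv0.2 (Subtype.ext ?_)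
      have hmem : (v0 : V) ∈ W1 := ⟨v0.2, Module.End.mem_eigenspace_iff.2
        (congrArg Subtype.val (Module.End.mem_eigenspace_iff.1 hv0.1))⟩
      rwa [h0, Submodule.mem_bot] at hmem
    have hμ0 : μ ≠ 0 := by
      intro h0
      obtain ⟨w, hw, hw0⟩ := Submodule.exists_mem_ne_zero_of_ne_bot hW1ne
      have h2 := Module.End.mem_eigenspace_iff.1 hw.2
      rw [h0, zero_smul] at h2
      exact hw0 (by simpa using congrArg (ρ a⁻¹) h2)
    let H1 : Subgroup G :=
      { carrier := {g | g ∈ H ∧ ∀ w ∈ W, ρ a (ρ g w) = ρ g (ρ a w)}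
        one_mem' := ⟨H.one_mem, fun w _ => by simp⟩
        mul_mem' := by
          rintro g g' ⟨hg, hc⟩ ⟨hg', hc'⟩
          refine ⟨H.mul_mem hg hg', fun w hw => ?_⟩
          rw [map_mul, Module.End.mul_apply, Module.End.mul_apply, hc _ (hWi g' hg' w hw), hc' w hw]
        inv_mem' := by
          rintro g ⟨hg, hc⟩
          refine ⟨H.inv_mem hg, fun w hw => ?_⟩
          have h1 := congrArg (ρ g⁻¹) (hc _ (hWi _ (H.inv_mem hg) w hw))
          simpa using h1.symm }
    have hH1le : H1 ≤ H := fun g hg => hg.1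
    have hW1inv : Inv ρ H1 W1 := by
      intro g hg w hw
      refine ⟨hWi g hg.1 w hw.1, Module.End.mem_eigenspace_iff.2 ?_⟩
      rw [hg.2 w hw.1, Module.End.mem_eigenspace_iff.1 hw.2, map_smul]
    have hlt : H1 < H := by
      refine lt_of_le_of_ne hH1le fun heq => haS ⟨μ, fun w hw => ?_⟩
      have h1 : W1 = W := (hWu W1 inf_le_left (heq ▸ hW1inv)).resolve_left hW1ne
      exact Module.End.mem_eigenspace_iff.1 (h1 ▸ hw : w ∈ W1).2
    have hcard : Nat.card H1 ≤ m := by
      have hle : Nat.card H1 ≤ Nat.card H := Subgroup.card_le_of_le hH1le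
      have hne : Nat.card H1 ≠ Nat.card H := fun h =>
        hlt.ne (Subgroup.eq_of_le_of_card_ge hH1le h.ge)
      omega
    haveI : Fintype (H ⧸ H1.subgroupOf H) := Fintype.ofFinite _
    -- the induction map
    let Φ : ∀ U : Submodule K V, ((H ⧸ H1.subgroupOf H) → U) →ₗ[K] V := fun U =>
      ∑ t : H ⧸ H1.subgroupOf H, ((ρ (t.out : G)).comp U.subtype).comp (LinearMap.proj t)
    have hΦ : ∀ U f, Φ U f = ∑ t, ρ (t.out : G) ((f t : U) : V) := fun U f => by
      simp [Φ, LinearMap.sum_apply]
    have hrange : ∀ U ≤ W1, U ≠ ⊥ → Inv ρ H1 U → LinearMap.range (Φ U) = W := by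
      intro U hU hU0 hUi
      have hmem : ∀ g ∈ H, ∀ u ∈ U, ρ g u ∈ LinearMap.range (Φ U) := by
        intro g hg u hu
        set t : H ⧸ H1.subgroupOf H := QuotientGroup.mk ⟨g, hg⟩ with ht
        have hk : (t.out)⁻¹ * (⟨g, hg⟩ : H) ∈ H1.subgroupOf H :=
          QuotientGroup.eq.1 (by rw [QuotientGroup.out_eq'])
        rw [Subgroup.mem_subgroupOf] at hk
        refine ⟨Pi.single t ⟨ρ ((t.out : G)⁻¹ * g) u, hUi _ (by simpa using hk) u hu⟩, ?_⟩
        rw [hΦ, Finset.sum_eq_single t]
        · rw [Pi.single_eq_same]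
          simp
        · intro s _ hs
          rw [Pi.single_eq_of_ne hs]
          simp
        · simp
      have hle : LinearMap.range (Φ U) ≤ W := by
        rintro _ ⟨f, rfl⟩
        rw [hΦ]
        exact Submodule.sum_mem _ fun t _ => hWi _ (t.out).2 _ (hU (f t).2).1
      refine (hWu _ hle ?_).resolve_left fun h0 => hU0 ?_
      · rintro g hg _ ⟨f, rfl⟩
        rw [hΦ, map_sum]
        refine Submodule.sum_mem _ fun t _ => ?_
        rw [← Module.End.mul_apply, ← map_mul]
        exact hmem _ (H.mul_mem hg (t.out).2) _ (f t).2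
      · rw [Submodule.eq_bot_iff]
        intro u hu
        have h1 := hmem 1 H.one_mem u hu
        rw [h0, map_one] at h1
        simpa using h1
    have hinj : Function.Injective (Φ W1) := by
      choose c hc0 hc using fun t : H ⧸ H1.subgroupOf H => hmul _ (t.out).2
      have hcinj : Function.Injective fun t => c t * μ := by
        intro t t' htt
        have htt' : c t = c t' := mul_right_cancel₀ hμ0 htt
        rw [← QuotientGroup.out_eq' t, ← QuotientGroup.out_eq' t']
        refine QuotientGroup.eq.2 (Subgroup.mem_subgroupOf.2 ?_)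
        refine ⟨(t.out⁻¹ * t'.out).2, fun w hw => ?_⟩
        set g : G := (t.out : G) with hg
        set g' : G := (t'.out : G) with hg'
        show ρ a (ρ (g⁻¹ * g') w) = ρ (g⁻¹ * g') (ρ a w)
        rw [map_mul, Module.End.mul_apply, Module.End.mul_apply]
        have hw1 : ρ g' w ∈ W := hWi g' (t'.out).2 w hw
        have h1 : ρ a (ρ g (ρ g⁻¹ (ρ g' w))) = c t • ρ g (ρ a (ρ g⁻¹ (ρ g' w))) :=
          hc t _ (hWi _ (H.inv_mem (t.out).2) _ hw1)
        rw [ρ.self_inv_apply, hc t' w hw, htt'] at h1
        have h2 := congrArg (ρ g⁻¹) (smul_right_injective V (hc0 t') h1)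
        rw [ρ.inv_self_apply] at h2
        exact h2.symm
      have hind := (Module.End.eigenspaces_iSupIndep (ρ a)).comp hcinj
      rw [iSupIndep_iff_finsetSum_eq_zero_imp_eq_zero] at hind
      rw [← LinearMap.ker_eq_bot, LinearMap.ker_eq_bot']
      intro f hf
      rw [hΦ] at hf
      have hmem : ∀ t ∈ (Finset.univ : Finset (H ⧸ H1.subgroupOf H)),
          ρ (t.out : G) (f t : V) ∈ Module.End.eigenspace (ρ a) (c t * μ) := by
        intro t _
        rw [Module.End.mem_eigenspace_iff, hc t _ (f t).2.1,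
          Module.End.mem_eigenspace_iff.1 (f t).2.2, map_smul, smul_smul]
      funext t
      refine Subtype.ext ?_
      have h1 := hind Finset.univ _ hmem hf t (Finset.mem_univ t)
      simpa using congrArg (ρ (t.out : G)⁻¹) h1
    have hdim : finrank K W = Fintype.card (H ⧸ H1.subgroupOf H) * finrank K W1 := by
      rw [← hrange W1 le_rfl hW1ne hW1inv, LinearMap.finrank_range_of_inj hinj,
        Module.finrank_pi_fintype]
      simp
    have hirr1 : IrrOn ρ H1 W1 := by
      refine ⟨hW1inv, hW1ne, fun U hU hUi => or_iff_not_imp_left.2 fun hU0 => ?_⟩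
      have key : Fintype.card (H ⧸ H1.subgroupOf H) * finrank K W1 ≤
          Fintype.card (H ⧸ H1.subgroupOf H) * finrank K U → finrank K W1 ≤ finrank K U :=
        fun h => Nat.le_of_mul_le_mul_left h Fintype.card_pos
      refine Submodule.eq_of_le_of_finrank_le hU (key ?_)
      rw [← hdim, ← hrange U hU hU0 hUi]
      refine (LinearMap.finrank_range_le _).trans (le_of_eq ?_)
      rw [Module.finrank_pi_fintype]
      simp
    obtain ⟨b, hb⟩ := ih H1 hcard (hH.to_le hH1le) W1 hirr1
    obtain ⟨j, hj⟩ := hH.index (H1.subgroupOf H)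
    refine ⟨j + b, ?_⟩
    rw [hdim, hb, ← Nat.card_eq_fintype_card, ← Subgroup.index_eq_card, hj, pow_add]

end CfsgLib.RepCritical
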